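import Groth.Agent.Lib.AlgSpDecent.HasAtChart
import Groth.Agent.Lib.AlgSpDecent.MonoPointApps
import Groth.Agent.Lib.AlgSpDescent.RedNoeth
import Groth.Agent.Lib.AlgSpace.UI
import Groth.Agent.Lib.AlgSpace.LocP

/-!
# Spaces flatly covered by the spectrum of a field
-/

universe u

set_option linter.style.haveILetI false
set_option linter.unusedVariables false
set_option backward.isDefEq.respectTransparency.types false

open CategoryTheory CategoryTheory.Limits AlgebraicGeometry AlgSp Topology Opposite
open Groth.Agent.AlgSpace Groth.Agent.AlgSpDecent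

namespace Groth.Agent.Residual14

variable {S : Scheme.{u}}

/-- A morphism to a scheme whose local rings are fields is flat. -/
theorem flat_of_isField_stalk {X Y : Scheme.{u}} (f : X ⟶ Y)
    (h : ∀ y : Y, IsField (Y.presheaf.stalk y)) : Flat f := by
  rw [Flat.iff_flat_stalkMap]
  intro x
  algebraize [(f.stalkMap x).hom]
  letI := (h (f x)).toField
  exact RingHom.flat_algebraMap_iff.2 inferInstance

theorem isField_stalk_of_subsingleton_field {K : Type u} [Field K] (y : Spec (CommRingCat.of K)) :
    ringKrullDim ((Spec (CommRingCat.of K)).presheaf.stalk y) = 0 := by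
  letI := specializationPreorder (Spec (CommRingCat.of K))
  rw [ringKrullDim_stalk_eq_coheight]
  have : Subsingleton ↥(Spec (CommRingCat.of K)) := inferInstanceAs (Subsingleton (PrimeSpectrum K))
  have h : Order.coheight y = 0 := Order.coheight_eq_zero.2 fun b _ =>
    le_of_eq (Subsingleton.elim b y)
  rw [h]; rfl

/-- The local rings of a scheme étale over a field are fields. -/
theorem isField_stalk_of_etale_field {K : Type u} [Field K] {T : Scheme.{u}}
    (f : T ⟶ Spec (CommRingCat.of K)) [Etale f] (t : T) : IsField (T.presheaf.stalk t) := by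
  have hd := (ringKrullDim_stalk_etale f t).trans (isField_stalk_of_subsingleton_field (f t))
  have : Ring.KrullDimLE 0 (T.presheaf.stalk t) := Ring.krullDimLE_iff.2 hd.le
  have : IsReduced T := AlgSpDescent.isReduced_of_smooth f
  exact Ring.KrullDimLE.isField_of_isReduced

/-- Fields descend along flat local homomorphisms. -/
theorem isField_of_flat_stalkMap {X Y : Scheme.{u}} (f : X ⟶ Y) [Flat f] (x : X)
    (h : IsField (X.presheaf.stalk x)) : IsField (Y.presheaf.stalk (f x)) := by
  rw [IsLocalRing.isField_iff_maximalIdeal_eq]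
  rw [IsLocalRing.isField_iff_maximalIdeal_eq] at h
  refine (Submodule.eq_bot_iff _).2 fun a ha => GeomRed.stalkMap_injective f x ?_
  rw [map_zero]
  have : (f.stalkMap x).hom a ∈ IsLocalRing.maximalIdeal (X.presheaf.stalk x) := fun hu =>
    ha (isUnit_of_map_unit (f.stalkMap x).hom a hu)
  rw [h] at this
  exact this

variable {Z : Sp S}

/-- All charts of a space flatly covered by a field have fields as local rings. -/
theorem isField_stalk_chart {k : Type u} [Field k] {str : Spec (CommRingCat.of k) ⟶ S}
    {p : (yon S).obj (Over.mk str) ⟶ Z} (hpf : LocP @Flat p) (hps : IsSurjectiveMor p)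
    {U : Over S} {a : (yon S).obj U ⟶ Z} (ha : RepWith @Etale a) (u : U.left) :
    IsField (U.left.presheaf.stalk u) := by
  have sq := ha.1.isPullback' p
  have : Etale (ha.1.snd p).left := ha.2 p _ _ (ha.1.isPullback p)
  have : Flat (ha.1.fst' p).left := hpf ((yon S).map (ha.1.snd p)) a (ha.1.fst' p)
    ((repWith_yon_map_iff _ _).2 ‹_›) ha sq.w.symm
  obtain ⟨x, hx⟩ := hps (Points.ofPt a u)
  obtain ⟨w, -, hw⟩ := exists_pt_of_isPullback sq.flip hx
  rw [← hw]
  exact isField_of_flat_stalkMap (ha.1.fst' p).left w
    (isField_stalk_of_etale_field (K := k) (ha.1.snd p).left w)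

/-- Every morphism from a scheme into such a space is flat. -/
theorem locP_flat_of_flat_surjective (hZ : IsAlgSpace Z) {k : Type u} [Field k]
    {str : Spec (CommRingCat.of k) ⟶ S} {p : (yon S).obj (Over.mk str) ⟶ Z}
    (hpf : LocP @Flat p) (hps : IsSurjectiveMor p) {T : Sp S} (q : T ⟶ Z) : LocP @Flat q :=
  fun _ _ _ b h _ hb _ => flat_of_isField_stalk h.left fun v => isField_stalk_chart hpf hps hb v

theorem subsingleton_points {k : Type u} [Field k] {str : Spec (CommRingCat.of k) ⟶ S}
    {p : (yon S).obj (Over.mk str) ⟶ Z} (hps : IsSurjectiveMor p) : Subsingleton (Points Z) := by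
  have : Subsingleton ↥(Over.mk str).left := inferInstanceAs (Subsingleton (PrimeSpectrum k))
  have : Subsingleton (Points ((yon S).obj (Over.mk str))) :=
    (Points.schemeEquiv (Over.mk str)).symm.injective.subsingleton
  exact Function.Surjective.subsingleton hps

theorem flat_surjective_fieldPt (hZ : IsAlgSpace Z) {k : Type u} [Field k]
    {str : Spec (CommRingCat.of k) ⟶ S} {p : (yon S).obj (Over.mk str) ⟶ Z}
    (hpf : LocP @Flat p) (hps : IsSurjectiveMor p) {k' : Type u} [Field k']
    {str' : Spec (CommRingCat.of k') ⟶ S} (q : (yon S).obj (Over.mk str') ⟶ Z) :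
    LocP @Flat q ∧ IsSurjectiveMor q :=
  ⟨locP_flat_of_flat_surjective hZ hpf hps q, fun x =>
    ⟨Points.ofScheme _ (IsLocalRing.closedPoint k'),
      @Subsingleton.elim _ (subsingleton_points hps) _ _⟩⟩

/-- The residue field point of a chart. -/
noncomputable abbrev chartPt {U : Over S} (a : (yon S).obj U ⟶ Z) (u : U.left) :
    (yon S).obj (Over.mk (U.left.fromSpecResidueField u ≫ U.hom)) ⟶ Z :=
  (yon S).map (Over.homMk (U.left.fromSpecResidueField u) rfl :
    Over.mk (U.left.fromSpecResidueField u ≫ U.hom) ⟶ U) ≫ a

/-- In a chart of a reduced one point space the local rings are fields. -/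
theorem isField_stalk_of_reduced (hZ : IsAlgSpace Z) (hr : EtaleLocally (fun U => IsReduced U) Z)
    [Subsingleton (Points Z)] {U : Over S} {a : (yon S).obj U ⟶ Z} (ha : RepWith @Etale a)
    (u : U.left) : IsField (U.left.presheaf.stalk u) := by
  have : IsReduced U.left :=
    AlgSpDescent.prop_of_etale_chart AlgSpDescent.isReduced_up AlgSpDescent.isReduced_down hr ha
  obtain ⟨η, hη⟩ : ∃ η : U.left, ringKrullDim (U.left.presheaf.stalk η) = 0 := by
    have hi := isIrreducible_irreducibleComponent (X := ↥U.left) (x := u)
    have hg := hi.isGenericPoint_genericPoint isClosed_irreducibleComponent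
    refine ⟨hi.genericPoint, ?_⟩
    letI := specializationPreorder U.left
    rw [ringKrullDim_stalk_eq_coheight]
    have h : Order.coheight hi.genericPoint = 0 := Order.coheight_eq_zero.2 fun b hb => by
      have hb' : b ⤳ hi.genericPoint := hb
      have hcl : closure ({b} : Set U.left) = irreducibleComponent u :=
        eq_irreducibleComponent isIrreducible_singleton.closure.isPreirreducible
          (hg.def ▸ closure_minimal (Set.singleton_subset_iff.2 (specializes_iff_mem_closure.1 hb'))
            isClosed_closure)
      exact specializes_iff_mem_closure.2 (hg.def.symm ▸ hcl ▸ subset_closure (Set.mem_singleton b))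
    rw [h]; rfl
  have hQ : ∀ ⦃A B : Scheme.{u}⦄ (f : A ⟶ B), Etale f → ∀ x,
      ringKrullDim (A.presheaf.stalk x) = 0 ↔ ringKrullDim (B.presheaf.stalk (f x)) = 0 :=
    fun A B f _ x => by rw [ringKrullDim_stalk_etale f x]
  have hd : ringKrullDim (U.left.presheaf.stalk u) = 0 := by
    rw [← hasAt_iff_of_chart (Q := fun W w => ringKrullDim ↥(W.presheaf.stalk w) = 0) hQ ha u,
      Subsingleton.elim (Points.ofPt a u) (Points.ofPt a η), hasAt_iff_of_chart hQ ha η]
    exact hη
  have : Ring.KrullDimLE 0 (U.left.presheaf.stalk u) := Ring.krullDimLE_iff.2 hd.le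
  exact Ring.KrullDimLE.isField_of_isReduced

/-- Points of a scheme whose local rings are fields are closed. -/
theorem isClosed_singleton_of_isField {X : Scheme.{u}} (h : ∀ x : X, IsField (X.presheaf.stalk x))
    (x : X) : IsClosed ({x} : Set X) := by
  rw [← closure_subset_iff_isClosed]
  intro y hy
  letI := specializationPreorder X
  letI := (h y).toField
  have h0 : ringKrullDim (X.presheaf.stalk y) = 0 := ringKrullDim_eq_zero_of_field _
  rw [ringKrullDim_stalk_eq_coheight] at h0
  have hmax : IsMax y := Order.coheight_eq_zero.1 (by exact_mod_cast h0)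
  have hsp : x ⤳ y := specializes_iff_mem_closure.2 hy
  exact (hsp.antisymm (hmax (show y ≤ x from hsp))).eq.symm

/-- Properties of residue field points of charts. -/
theorem chartPt_props (hZ : IsAlgSpace Z) [Subsingleton (Points Z)] {U : Over S}
    {a : (yon S).obj U ⟶ Z} (ha : RepWith @Etale a)
    (h : ∀ (V : Over S) (b : (yon S).obj V ⟶ Z), RepWith @Etale b → ∀ v, IsField (V.left.presheaf.stalk v))
    (u : U.left) :
    IsSurjectiveMor (chartPt a u) ∧ LocP @Flat (chartPt a u) ∧ LocP @LocallyOfFiniteType (chartPt a u) ∧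
      (IsLocallyNoetherian U.left → LocP @LocallyOfFinitePresentation (chartPt a u)) := by
  let j : Over.mk (U.left.fromSpecResidueField u ≫ U.hom) ⟶ U := Over.homMk (U.left.fromSpecResidueField u) rfl
  have : IsPreimmersion j.left := inferInstanceAs (IsPreimmersion (U.left.fromSpecResidueField u))
  have hc : IsClosedImmersion j.left := IsClosedImmersion.of_isPreimmersion _ (by
    change IsClosed (Set.range (U.left.fromSpecResidueField u))
    rw [Scheme.range_fromSpecResidueField]
    exact isClosed_singleton_of_isField (h U a ha) u)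
  have hl : ∀ {P : MorphismProperty Scheme.{u}} [EtaleLocal P], P j.left →
      LocP P (chartPt a u) := fun {P} _ hj =>
    locP_comp (IsAlgSpace.yon_obj _) (IsAlgSpace.yon_obj U) hZ
      (locP_of_repWith (IsAlgSpace.yon_obj U) ((repWith_yon_map_iff _ _).2 hj))
      (locP_of_repWith hZ (repWith_mono (EtaleLocal.etale_le (P := P)) ha))
  refine ⟨fun x => ⟨Points.ofScheme _ (IsLocalRing.closedPoint _), Subsingleton.elim _ _⟩,
    fun _ _ _ b g _ hb _ => flat_of_isField_stalk g.left fun v => h _ b hb v,
    hl (inferInstanceAs (LocallyOfFiniteType j.left)), fun _ => hl ?_⟩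
  exact LocallyOfFinitePresentation.iff_locallyOfFiniteType.2 inferInstance

end Groth.Agent.Residual14
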