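import Groth.Agent.Lib.Residual14.OnePoint
import Groth.Agent.Lib.AlgSpDecent.ClosedPoints
import Groth.Agent.Lib.AlgSpDecent.OnePoint
import Groth.Agent.Lib.AlgSpDecent.ZeroDim
import Groth.Agent.Lib.AlgSpace.Quot
import Groth.Agent.Lib.RedSep.Basic
import Groth.Agent.Lib.Descend.BaseChangeAt

/-!
# Residual spaces
-/

universe u

set_option linter.unusedVariables false
set_option linter.style.haveILetI false
set_option backward.isDefEq.respectTransparency.types false

open CategoryTheory CategoryTheory.Limits AlgebraicGeometry AlgSp Topology Opposite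
open Groth.Agent.AlgSpace Groth.Agent.AlgSpDecent

namespace Groth.Agent.Residual14

variable {S : Scheme.{u}}

/-- Flat, surjective, locally finitely presented maps from schemes are locally surjective. -/
theorem isLocallySurjective_of_fppf {F : Sp S} (hF : IsAlgSpace F) {V : Over S}
    {p : (yon S).obj V ⟶ F} (hfl : LocP @Flat p) (hfp : LocP @LocallyOfFinitePresentation p)
    (hs : IsSurjectiveMor p) : Sheaf.IsLocallySurjective p := by
  refine isLocallySurjective_of_lifts p fun T g => ?_
  have sq := IsPullback.of_hasPullback p g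
  have hP := isAlgSpace_pullback hF (IsAlgSpace.yon_obj V) (IsAlgSpace.yon_obj T) sq
  obtain ⟨A, r, hre, hrs⟩ := hP.atlas
  obtain ⟨c, hc⟩ := (yon S).map_surjective (r ≫ pullback.snd p g)
  have hid : RepWith @Etale (𝟙 ((yon S).obj T)) := repWith_id @Etale T
  have w : r ≫ pullback.snd p g = (yon S).map c ≫ 𝟙 _ := by rw [Category.comp_id, hc]
  refine ⟨A, c, r ≫ pullback.fst p g,
    locP_of_isPullback (IsAlgSpace.yon_obj V) hF (IsAlgSpace.yon_obj T) sq hfl r (𝟙 _) c hre hid w,
    ⟨fun t => ?_⟩,
    locP_of_isPullback (IsAlgSpace.yon_obj V) hF (IsAlgSpace.yon_obj T) sq hfp r (𝟙 _) c hre hid w,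
    by rw [Category.assoc, pullback.condition, ← Category.assoc, hc]⟩
  obtain ⟨x, hx⟩ := hs (Points.ofPt g t)
  obtain ⟨z, -, hz⟩ := exists_point_lift sq x (Points.ofScheme T t)
    (by rw [← Points.ofPt_eq_map_ofScheme]; exact hx)
  obtain ⟨a, rfl⟩ := surjective_ofPt hrs z
  refine ⟨a, (Points.schemeEquiv T).injective ?_⟩
  rw [Points.map_ofPt, ← hc, ofPt_map_eq] at hz
  exact hz

theorem reduced_singleton_of_flat_surjective (Z : Space S) {k : Type u} [Field k]
    {str : Spec (CommRingCat.of k) ⟶ S} {p : (yon S).obj (Over.mk str) ⟶ Z.obj}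
    (hpf : LocP @Flat p) (hps : IsSurjectiveMor p) :
    EtaleLocally (fun U => IsReduced U) Z.obj ∧ Nonempty (Points Z.obj) ∧ Subsingleton (Points Z.obj) :=
  ⟨AlgSpDescent.isReducedSp_of_flat_surjective (IsAlgSpace.yon_obj _) Z.property hpf hps
    ⟨Over.mk str, 𝟙 _, repWith_id @Etale _, repWith_id @Surjective _,
      inferInstanceAs (IsReduced (Spec (CommRingCat.of k)))⟩,
    ⟨Points.ofPt p (IsLocalRing.closedPoint k)⟩, subsingleton_points hps⟩

theorem exists_lft_flat_surjective (Z : Space S) (hr : EtaleLocally (fun U => IsReduced U) Z.obj)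
    [Nonempty (Points Z.obj)] [Subsingleton (Points Z.obj)] :
    ∃ (k : Type u) (_ : Field k) (str : Spec (CommRingCat.of k) ⟶ S)
      (p : (yon S).obj (Over.mk str) ⟶ Z.obj),
      LocP @LocallyOfFiniteType p ∧ LocP @Flat p ∧ IsSurjectiveMor p ∧
        (IsLocNoethSp Z.obj → LocP @LocallyOfFinitePresentation p) := by
  obtain ⟨U, a, hae, has⟩ := Z.property.atlas
  obtain ⟨u, -⟩ := surjective_ofPt has (Classical.arbitrary (Points Z.obj))
  obtain ⟨h₁, h₂, h₃, h₄⟩ := chartPt_props Z.property hae
    (fun V b hb v => isField_stalk_of_reduced Z.property hr hb v) u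
  exact ⟨U.left.residueField u, inferInstance, _, chartPt a u, h₃, h₂, h₁,
    fun hn => h₄ (isLocallyNoetherian_of_etale_chart hn hae)⟩

/-- A monomorphism into a scheme étale over a field is an open immersion. -/
theorem isOpenImmersion_of_mono_etale_field {K : Type u} [Field K] {R T : Scheme.{u}} (m : R ⟶ T)
    [Mono m] (f : T ⟶ Spec (CommRingCat.of K)) [Etale f] : IsOpenImmersion m := by
  let O : T → T.Opens := fun t => ⟨{t}, isOpen_singleton_of_etale_field f t⟩
  refine (IsZariskiLocalAtTarget.iff_of_iSup_eq_top (P := @IsOpenImmersion) O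
    (top_le_iff.1 fun t _ => TopologicalSpace.Opens.mem_iSup.2 ⟨t, rfl⟩)).2 fun t => ?_
  have : Mono (m ∣_ O t) := (isPullback_morphismRestrict m (O t)).flip.mono_snd_of_mono
  by_cases hne : Nonempty (m ⁻¹ᵁ O t).toScheme
  · have : Subsingleton ↥(O t).toScheme := ⟨fun a b => Subtype.ext (a.2.trans b.2.symm)⟩
    have : Nonempty ↥(O t).toScheme := ⟨⟨t, rfl⟩⟩
    have : IsReduced T := AlgSpDescent.isReduced_of_smooth f
    obtain ⟨L, _, ⟨e⟩⟩ := exists_iso_spec_field (O t).toScheme
    have : IsIso ((m ∣_ O t) ≫ e.inv) := Groth.Agent.AlgSpace.isIso_of_mono_field _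
    have : IsIso (m ∣_ O t) := IsIso.of_isIso_comp_right (m ∣_ O t) e.inv
    infer_instance
  · have : IsEmpty (m ⁻¹ᵁ O t).toScheme := not_nonempty_iff.1 hne
    infer_instance

/-- Residual spaces exist. -/
theorem exists_residual (X : Space S) (x : Points X.obj) :
    ∃ (Z : Space S) (i : Z ⟶ X), Mono i.hom ∧ Set.range (Points.map i.hom) = {x} ∧
      ∃ (k : Type u) (_ : Field k) (str : Spec (CommRingCat.of k) ⟶ S)
        (p : (yon S).obj (Over.mk str) ⟶ Z.obj),
        LocP @LocallyOfFinitePresentation p ∧ LocP @Flat p ∧ IsSurjectiveMor p := by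
  obtain ⟨U, a, hae, has⟩ := X.property.atlas
  obtain ⟨u, rfl⟩ := surjective_ofPt has x
  let K : Over S := Over.mk (U.left.fromSpecResidueField u ≫ U.hom)
  let j : K ⟶ U := Over.homMk (U.left.fromSpecResidueField u) rfl
  have : Mono j := (Over.forget S).mono_of_mono_map (inferInstanceAs (Mono (U.left.fromSpecResidueField u)))
  let ξ : (yon S).obj K ⟶ X.obj := (yon S).map j ≫ a
  let π := Sheaf.toImage ξ
  let ι := Sheaf.imageι ξ
  have hπι : π ≫ ι = ξ := Sheaf.toImage_ι _
  have sqT := hae.1.isPullback' ξ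
  let sn := hae.1.snd ξ
  have : Etale sn.left := hae.2 ξ _ _ (hae.1.isPullback ξ)
  let pr₁ := pullback.fst (hae.1.fst' ξ) j
  let pr₂ := pullback.snd (hae.1.fst' ξ) j
  have sqR : IsPullback ((yon S).map pr₂) ((yon S).map (pr₁ ≫ sn)) ξ ξ := by
    rw [Functor.map_comp]
    exact ((IsPullback.of_hasPullback (hae.1.fst' ξ) j).map (yon S)).flip.paste_vert sqT
  have hs : Etale (pr₁ ≫ sn).left := by
    have : Mono ((yon S).map pr₁) :=
      ((IsPullback.of_hasPullback (hae.1.fst' ξ) j).map (yon S)).flip.mono_snd_of_mono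
    have := mono_left pr₁
    have := isOpenImmersion_of_mono_etale_field (K := U.left.residueField u) pr₁.left sn.left
    rw [Over.comp_left]; infer_instance
  have ht : Etale pr₂.left := by
    obtain ⟨e, he⟩ := (yon S).map_surjective (sqR.flip.isoIsPullback _ _ sqR).hom
    have h2 : e ≫ (pr₁ ≫ sn) = pr₂ := (yon S).map_injective (by
      rw [Functor.map_comp, he]; exact sqR.flip.isoIsPullback_hom_snd _ _ sqR)
    have : IsIso ((yon S).map e) := he ▸ inferInstance
    have : IsIso e := isIso_of_reflects_iso e (yon S)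
    have : IsIso e.left := inferInstanceAs (IsIso ((Over.forget S).map e))
    rw [← h2, Over.comp_left]; infer_instance
  have sqπ : IsPullback ((yon S).map pr₂) ((yon S).map (pr₁ ≫ sn)) π π := by
    have hsq : IsPullback ((yon S).map pr₂) ((yon S).map (pr₁ ≫ sn)) (π ≫ ι) (π ≫ ι) := hπι.symm ▸ sqR
    refine IsPullback.of_isLimit' ⟨(cancel_mono ι).1 (by simpa only [Category.assoc] using hsq.w)⟩
      (PullbackCone.IsLimit.mk _ (fun c => hsq.lift c.fst c.snd (by rw [reassoc_of% c.condition]))
        (fun c => hsq.lift_fst _ _ _) (fun c => hsq.lift_snd _ _ _)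
        (fun c m h₁ h₂ => hsq.hom_ext (h₁.trans (hsq.lift_fst _ _ _).symm)
          (h₂.trans (hsq.lift_snd _ _ _).symm)))
  have : Sheaf.IsLocallySurjective π := inferInstance
  obtain ⟨halg, hπe, hπs⟩ := isAlgSpace_of_etale_kernelPair sqπ ht hs
  refine ⟨⟨Sheaf.image ξ, halg⟩, ObjectProperty.homMk ι, inferInstanceAs (Mono ι), ?_,
    U.left.residueField u, inferInstance, _, π, locP_of_repWith halg (repWith_mono etale_le_lfp hπe),
    locP_of_repWith halg (repWith_mono etale_le_flat hπe), surjective_map_of_repWith hπs⟩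
  have key : ∀ t : ↥K.left, Points.map ι (Points.ofPt π t) = Points.ofPt a u := fun t => by
    rw [Points.map_ofPt, hπι, ofPt_map_comp]
    exact congrArg _ (U.left.fromSpecResidueField_apply u t)
  ext y
  refine ⟨fun ⟨z, hz⟩ => ?_, fun hy => ?_⟩
  · obtain ⟨t, rfl⟩ := surjective_ofPt hπs z
    exact hz.symm.trans (key t)
  · exact ⟨Points.ofPt π (IsLocalRing.closedPoint (U.left.residueField u)),
      (key _).trans (Set.mem_singleton_iff.1 hy).symm⟩

/-- A monomorphism from a nonempty space to a space flatly covered by a point is an isomorphism. -/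
theorem isIso_of_mono {Z' Z : Space S} (f : Z'.obj ⟶ Z.obj) [Mono f] [Nonempty (Points Z'.obj)]
    {k : Type u} [Field k] {str : Spec (CommRingCat.of k) ⟶ S}
    {p : (yon S).obj (Over.mk str) ⟶ Z.obj} (hfp : LocP @LocallyOfFinitePresentation p)
    (hfl : LocP @Flat p) (hs : IsSurjectiveMor p) : IsIso f := by
  have := isLocallySurjective_of_fppf Z.property hfl hfp hs
  have hP := isAlgSpace_pullback Z.property Z'.property (IsAlgSpace.yon_obj (Over.mk str))
    (IsPullback.of_hasPullback f p)
  have : Subsingleton ↥(Over.mk str).left := inferInstanceAs (Subsingleton (PrimeSpectrum k))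
  have : DiscreteTopology ↥(Over.mk str).left := inferInstance
  obtain ⟨Y, ⟨e⟩⟩ := exists_yon_iso_of_isRepresentable
    (isRepresentable_of_mono_discrete ⟨pullback f p, hP⟩ (pullback.snd f p))
  obtain ⟨m, hm⟩ := (yon S).map_surjective (e.hom ≫ pullback.snd f p)
  have : Mono ((yon S).map m) := hm ▸ mono_comp _ _
  have := mono_left m
  obtain ⟨z, -⟩ : ∃ z : Points Z'.obj, True := ⟨Classical.arbitrary _, trivial⟩
  obtain ⟨y, hy⟩ := hs (Points.map f z)
  obtain ⟨w, -, -⟩ := exists_point_lift (IsPullback.of_hasPullback f p) z y hy.symm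
  have : Nonempty Y.left := ⟨(Points.schemeEquiv Y).symm (Points.map e.inv w)⟩
  have : IsIso ((Over.forget S).map m) := Groth.Agent.AlgSpace.isIso_of_mono_field (K := k) m.left
  have : IsIso m := isIso_of_reflects_iso m (Over.forget S)
  have : IsIso (pullback.snd f p) := by
    have : IsIso (e.hom ≫ pullback.snd f p) := hm ▸ inferInstance
    exact IsIso.of_isIso_comp_left e.hom _
  have : Sheaf.IsLocallySurjective f := Presheaf.isLocallySurjective_of_isLocallySurjective_fac (AlgSp.J S)
    (f₁ := (inv (pullback.snd f p) ≫ pullback.fst f p).hom) (f₃ := p.hom)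
    (congrArg (fun q => q.hom) (show (inv (pullback.snd f p) ≫ pullback.fst f p) ≫ f = p by
      rw [Category.assoc, pullback.condition, IsIso.inv_hom_id_assoc]))
  have : Epi f := Sheaf.epi_of_isLocallySurjective' f
  exact isIso_of_mono_of_epi f

/-- Residual spaces are unique. -/
theorem residual_unique (X : Space S) (x : Points X.obj) {Z Z' : Space S} (i : Z ⟶ X) (i' : Z' ⟶ X)
    [Mono i.hom] [Mono i'.hom] (hi : Set.range (Points.map i.hom) = {x})
    (hi' : Set.range (Points.map i'.hom) = {x})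
    {k : Type u} [Field k] {str : Spec (CommRingCat.of k) ⟶ S}
    {p : (yon S).obj (Over.mk str) ⟶ Z.obj} (h₁ : LocP @LocallyOfFinitePresentation p)
    (h₂ : LocP @Flat p) (h₃ : IsSurjectiveMor p)
    {k' : Type u} [Field k'] {str' : Spec (CommRingCat.of k') ⟶ S}
    {p' : (yon S).obj (Over.mk str') ⟶ Z'.obj} (h₁' : LocP @LocallyOfFinitePresentation p')
    (h₂' : LocP @Flat p') (h₃' : IsSurjectiveMor p') :
    ∃ e : Z' ≅ Z, e.hom ≫ i = i' := by
  let P : Space S := ⟨pullback i.hom i'.hom,
    isAlgSpace_pullback X.property Z.property Z'.property (IsPullback.of_hasPullback _ _)⟩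
  obtain ⟨z, hz⟩ : x ∈ Set.range (Points.map i.hom) := hi ▸ rfl
  obtain ⟨z', hz'⟩ : x ∈ Set.range (Points.map i'.hom) := hi' ▸ rfl
  obtain ⟨w, -, -⟩ := exists_point_lift (IsPullback.of_hasPullback i.hom i'.hom) z z' (hz.trans hz'.symm)
  have : Nonempty (Points P.obj) := ⟨w⟩
  have := isIso_of_mono (Z' := P) (Z := Z') (pullback.snd i.hom i'.hom) h₁' h₂' h₃'
  have := isIso_of_mono (Z' := P) (Z := Z) (pullback.fst i.hom i'.hom) h₁ h₂ h₃
  refine ⟨(ObjectProperty.fullyFaithfulι _).preimageIso
    ((asIso (pullback.snd i.hom i'.hom)).symm ≪≫ asIso (pullback.fst i.hom i'.hom)), ?_⟩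
  ext1
  show (inv (pullback.snd i.hom i'.hom) ≫ pullback.fst i.hom i'.hom) ≫ i.hom = i'.hom
  rw [Category.assoc, pullback.condition, IsIso.inv_hom_id_assoc]

/-- A morphism from a reduced scheme to an affine scheme with a single point in the image factors
through a field. -/
theorem exists_field_factor {W O : Scheme.{u}} [IsReduced W] [IsAffine O] (g : W ⟶ O) (u : O)
    (hg : ∀ w, g w = u) :
    ∃ (L : Type u) (_ : Field L) (σ : Spec (CommRingCat.of L) ⟶ O) (g₀ : W ⟶ Spec (CommRingCat.of L)),
      g₀ ≫ σ = g ∧ ∀ t, σ t = u := by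
  let Cl : TopologicalSpace.Closeds O := ⟨closure {u}, isClosed_closure⟩
  let I := Scheme.IdealSheafData.vanishingIdeal Cl
  have : IsReduced I.subscheme := RedSepLib.isReduced_vanishingIdeal_subscheme Cl
  have hr : Set.range I.subschemeι = closure {u} := by
    rw [Scheme.IdealSheafData.range_subschemeι, Scheme.IdealSheafData.coe_support_vanishingIdeal]
    rfl
  have : IsAffine I.subscheme := isAffine_of_isAffineHom I.subschemeι
  obtain ⟨η, hη⟩ : u ∈ Set.range I.subschemeι := hr ▸ subset_closure rfl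
  have hmax : ∀ b, b ⤳ η → b = η := fun b hb => by
    have h2 : u ⤳ I.subschemeι b := specializes_iff_mem_closure.2 (hr ▸ ⟨b, rfl⟩)
    have h3 : I.subschemeι b ⤳ u := hη ▸ hb.map I.subschemeι.continuous
    exact I.subschemeι.isEmbedding.injective ((h3.antisymm h2).eq.trans hη.symm)
  have hfield : IsField (I.subscheme.presheaf.stalk η) := by
    letI := specializationPreorder I.subscheme
    have hd : ringKrullDim (I.subscheme.presheaf.stalk η) = 0 := by
      rw [ringKrullDim_stalk_eq_coheight]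
      have : Order.coheight η = 0 := Order.coheight_eq_zero.2 fun b hb => by
        rw [hmax b hb]
      rw [this]; rfl
    have : Ring.KrullDimLE 0 (I.subscheme.presheaf.stalk η) := Ring.krullDimLE_iff.2 hd.le
    exact Ring.KrullDimLE.isField_of_isReduced
  letI := hfield.toField
  let σ₀ : Spec (I.subscheme.presheaf.stalk η) ⟶ I.subscheme := I.subscheme.fromSpecStalk η
  have hσ : ∀ t, σ₀ t = η := fun t => by
    have : Subsingleton ↥(Spec (I.subscheme.presheaf.stalk η)) :=
      inferInstanceAs (Subsingleton (PrimeSpectrum (I.subscheme.presheaf.stalk η)))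
    rw [Subsingleton.elim t (IsLocalRing.closedPoint _)]
    exact Scheme.fromSpecStalk_closedPoint
  obtain ⟨g', hg'⟩ := RedSepLib.exists_lift_of_range_subset g I.subschemeι (by
    rintro _ ⟨w, rfl⟩
    rw [hr, hg w]
    exact subset_closure rfl)
  have hg'η : ∀ w, g' w = η := fun w => I.subschemeι.isEmbedding.injective (by
    rw [← Scheme.Hom.comp_apply, hg', hg w, hη])
  have : Flat σ₀ := Descend.flat_fromSpecStalk _
  have : IsAffineHom σ₀ := inferInstance
  have : Surjective (pullback.fst g' σ₀) := ⟨fun w => by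
    obtain ⟨z, hz, -⟩ := Scheme.Pullback.exists_preimage_pullback (f := g') (g := σ₀) w
      (IsLocalRing.closedPoint _) (by rw [hg'η, hσ])
    exact ⟨z, hz⟩⟩
  have : IsPreimmersion σ₀ := inferInstance
  have : IsIso (pullback.fst g' σ₀) := Flat.isIso_of_surjective_of_mono _
  refine ⟨_, hfield.toField, σ₀ ≫ I.subschemeι, inv (pullback.fst g' σ₀) ≫ pullback.snd g' σ₀, ?_, ?_⟩
  · rw [Category.assoc, ← pullback.condition_assoc, IsIso.inv_hom_id_assoc, hg']
  · intro t
    rw [Scheme.Hom.comp_apply, hσ, hη]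

/-- A morphism from a reduced space to a point given by a quasi-compact monomorphism factors. -/
theorem factors_through_mono_point {Y X : Space S} (f : Y ⟶ X) (p : FieldPt X.obj)
    [Mono p.toHom] (hq : RepWith @QuasiCompact p.toHom)
    (hY : EtaleLocally (fun U => IsReduced U) Y.obj)
    (hf : ∀ y, Points.map f.hom y = Points.mk p) :
    ∃ g : Y.obj ⟶ (yon S).obj p.pt, g ≫ p.toHom = f.hom := by
  obtain ⟨V, b, hbe, hbs, hV⟩ := hY
  have : IsReduced V.left := hV
  obtain ⟨U, a, hae, has⟩ := X.property.atlas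
  let h := b ≫ f.hom
  let q := hae.1.fst' h
  let sn := hae.1.snd h
  have sqW := hae.1.isPullback' h
  have : Etale sn.left := hae.2 h _ _ (hae.1.isPullback h)
  have : IsReduced (hae.1.pullback h).left := AlgSpDescent.isReduced_of_smooth sn.left
  have hfin := finFibres_of_qc_fieldPt X.property.diag p hq
  have hqx : ∀ w, Points.ofPt a (q.left w) = Points.mk p := fun w => by
    rw [← ofPt_map_comp, sqW.w, ofPt_map_comp]
    exact (Points.map_ofPt b f.hom _).symm.trans (hf _)
  -- local factorisations on opens of the étale cover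
  have loc : ∀ w, ∃ (N : (hae.1.pullback h).left.Opens)
      (l : (yon S).obj (Over.mk (N.ι ≫ (hae.1.pullback h).hom)) ⟶ (yon S).obj p.pt), w ∈ N ∧
      l ≫ p.toHom = (yon S).map (Over.homMk N.ι rfl : Over.mk (N.ι ≫ (hae.1.pullback h).hom) ⟶ _) ≫
        (yon S).map sn ≫ h := by
    intro w
    obtain ⟨O, hO, huO, -⟩ := exists_isAffineOpen_mem_and_subset (X := U.left) (x := q.left w)
      (U := ⊤) trivial
    let o : Over.mk (O.ι ≫ U.hom) ⟶ U := Over.homMk O.ι rfl
    have hF : (Points.ofPt ((yon S).map o ≫ a) ⁻¹' {Points.mk p}).Finite :=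
      hfin _ _ hO (repWith_etale_restrict hae O)
    let E : Set ↥U.left := ((O : Set ↥U.left) ∩ Points.ofPt a ⁻¹' {Points.mk p}) \ {q.left w}
    have hE : E.Finite := by
      refine (hF.image O.ι).subset ?_
      rintro e ⟨⟨heO, he⟩, -⟩
      exact ⟨⟨e, heO⟩, (ofPt_map_comp o a _).trans he, rfl⟩
    let C : Set ↥U.left := ⋃ e ∈ E, closure {e}
    have hC : IsClosed C := hE.isClosed_biUnion fun _ _ => isClosed_closure
    have huC : q.left w ∉ C := fun h' => by
      obtain ⟨e, he, hec⟩ := Set.mem_iUnion₂.1 h'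
      exact he.2 (eq_of_specializes_of_finFibres hae hfin (hqx w) he.1.2
        (specializes_iff_mem_closure.2 hec))
    let N := q.left ⁻¹ᵁ (O ⊓ ⟨Cᶜ, hC.isOpen_compl⟩)
    have hNO : Set.range (N.ι ≫ q.left) ⊆ (O : Set ↥U.left) := by
      rintro _ ⟨t, rfl⟩
      exact t.2.1
    let g : N.toScheme ⟶ O.toScheme := IsOpenImmersion.lift O.ι (N.ι ≫ q.left) (by simpa using hNO)
    have hg : g ≫ O.ι = N.ι ≫ q.left := IsOpenImmersion.lift_fac _ _ _
    have : IsAffine O.toScheme := hO
    have : IsReduced N.toScheme := isReduced_of_isOpenImmersion N.ι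
    have hgu : ∀ t, g t = (⟨q.left w, huO⟩ : O.toScheme) := fun t => by
      apply O.ι.isOpenEmbedding.injective
      rw [← Scheme.Hom.comp_apply, hg, Scheme.Hom.comp_apply]
      show q.left t.1 = q.left w
      by_contra hne
      exact t.2.2 (Set.mem_biUnion (show q.left t.1 ∈ E from ⟨⟨t.2.1, hqx _⟩, hne⟩) (subset_closure rfl))
    obtain ⟨L, _, σ, g₀, hσ, hσu⟩ := exists_field_factor g _ hgu
    let T : Over S := Over.mk (σ ≫ O.ι ≫ U.hom)
    let σ' : T ⟶ U := Over.homMk (σ ≫ O.ι) (Category.assoc _ _ _)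
    obtain ⟨m, hm⟩ := exists_factor_mono_point ((yon S).map σ' ≫ a) p hq (by
      rw [ofPt_map_comp]
      refine (hqx w).symm.trans (congrArg _ ?_)
      show q.left w = O.ι (σ (IsLocalRing.closedPoint L))
      rw [hσu]
      rfl)
    let g₀' : Over.mk (N.ι ≫ (hae.1.pullback h).hom) ⟶ T := Over.homMk g₀ (by
      change g₀ ≫ σ ≫ O.ι ≫ U.hom = N.ι ≫ (hae.1.pullback h).hom
      rw [reassoc_of% hσ, reassoc_of% hg, Over.w q])
    refine ⟨N, (yon S).map (g₀' ≫ m), ⟨huO, huC⟩, ?_⟩
    rw [← sqW.w, ← Functor.map_comp_assoc, Functor.map_comp, Category.assoc, hm, ← Functor.map_comp_assoc]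
    congr 2
    exact Over.OverMorphism.ext ((reassoc_of% hσ) _ |>.trans (by rw [hg]; rfl))
  choose N l hwN hl using loc
  -- the base change of the point along the chart is an isomorphism
  have hsn : Surjective sn.left := has.2 h _ _ (hae.1.isPullback h)
  let c := pullback.snd p.toHom h
  have : Sheaf.IsLocallySurjective c := by
    refine ⟨fun {T} s => ?_⟩
    obtain ⟨t, rfl⟩ := (sect (T := T) (F := (yon S).obj V)).surjective s
    obtain ⟨t', rfl⟩ := (yon S).map_surjective t
    let κ := (hae.1.pullback h).left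
    let πw : ∀ w : κ, Over.mk ((N w).ι ≫ (hae.1.pullback h).hom) ⟶ V :=
      fun w => Over.homMk (N w).ι rfl ≫ sn
    refine (AlgSp.J S).superset_covering ?_ ((AlgSp.J S).pullback_stable t'
      (show Sieve.ofArrows _ πw ∈ AlgSp.J S V from (mem_J_iff _).2 ?_))
    · intro T' k hk
      obtain ⟨W, k', m', ⟨w⟩, hw⟩ := hk
      refine imageSieve_of_fac c _ k (pullback.lift ((yon S).map k' ≫ l w) ((yon S).map (k ≫ t')) ?_) ?_
      · have hw' : (yon S).map k' ≫ (yon S).map (πw w) = (yon S).map (k ≫ t') := by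
          rw [← Functor.map_comp]; exact congrArg _ hw
        rw [Category.assoc, hl, ← hw', Category.assoc]
        simp [πw]
      · rw [pullback.lift_snd, Functor.map_comp]
    · refine ⟨{ I₀ := κ, X := fun w => (N w).toScheme, f := fun w => (N w).ι ≫ sn.left,
                mem₀ := ?_ }, fun w => ?_⟩
      · change Presieve.ofArrows (fun w : κ => (N w).toScheme) (fun w => (N w).ι ≫ sn.left) ∈
          Scheme.precoverage (@Flat ⊓ @LocallyOfFinitePresentation) V.left
        rw [Scheme.ofArrows_mem_precoverage_iff]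
        refine ⟨fun v => ?_, fun w => ⟨inferInstance, inferInstance⟩⟩
        obtain ⟨w, rfl⟩ := sn.left.surjective v
        exact ⟨w, ⟨w, hwN w⟩, rfl⟩
      · rw [overEquiv_arrow]
        refine ⟨Over.mk ((N w).ι ≫ (hae.1.pullback h).hom), Over.homMk (𝟙 _) ?_, πw w, ⟨w⟩, ?_⟩
        · change 𝟙 _ ≫ (N w).ι ≫ (hae.1.pullback h).hom = ((N w).ι ≫ sn.left) ≫ V.hom
          rw [Category.id_comp, Category.assoc, Over.w sn]
        · exact Over.OverMorphism.ext (Category.id_comp _)
  have : Epi c := Sheaf.epi_of_isLocallySurjective' c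
  have : IsIso c := isIso_of_mono_of_epi c
  let l' := pullback.lift (inv c ≫ pullback.fst p.toHom h) b
    (show (inv c ≫ pullback.fst p.toHom h) ≫ p.toHom = b ≫ f.hom by
      rw [Category.assoc, pullback.condition, IsIso.inv_hom_id_assoc])
  let d := pullback.snd p.toHom f.hom
  have := isLocallySurjective_of_etale hbe hbs
  have : Sheaf.IsLocallySurjective d := Presheaf.isLocallySurjective_of_isLocallySurjective_fac
    (AlgSp.J S) (f₁ := l'.hom) (f₃ := b.hom) (congrArg (fun q => q.hom) (pullback.lift_snd _ b _))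
  have : Epi d := Sheaf.epi_of_isLocallySurjective' d
  have : IsIso d := isIso_of_mono_of_epi d
  exact ⟨inv d ≫ pullback.fst p.toHom f.hom,
    by rw [Category.assoc, pullback.condition, IsIso.inv_hom_id_assoc]⟩

end Groth.Agent.Residual14
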